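import Cfsg.Agent.H775.PU.Bound_m3
import Cfsg.Agent.H802.FusKGood
import Cfsg.Agent.H802.FusSub
import Cfsg.Agent.H802.FusNorm
import Cfsg.Agent.H802.FusGroup
import Cfsg.Agent.Prune
set_option linter.all false
prune_inst 0x7f00000000000000000000000000000000000000000000000000000000000000000000000000000000000000000000000000000000000000000000000000000000000000000000000000000000000000003fffffffffffffffffffffffffffbeffbdffffffff
open scoped Cfsg.Agent.FastGrp

/-!
# S5258: general facts on systems over a whole group, for the assembly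
-/

set_option autoImplicit false

namespace Cfsg.Agent.H756.PU

open Cfsg Cfsg.FusionSystem Cfsg.Agent.H802

universe u v

section

variable {G0 : Type u} [Group G0] {p : ℕ} {F : FusionSystem (⊤ : Subgroup G0)}

/-- the map on the top subgroup given by an automorphism of the group -/
def topHom (β : MulAut G0) : (⊤ : Subgroup G0) →* G0 := β.toMonoidHom.comp (⊤ : Subgroup G0).subtype

theorem mem_AF_iff {β : MulAut G0} : β ∈ AF F ↔ topHom β ∈ F.Hom ⊤ := by
  have key : ∀ α : MulAut (⊤ : Subgroup G0), (∀ x : (⊤ : Subgroup G0), ((α x : (⊤ : Subgroup G0)) : G0) = β x) →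
      (α ∈ F.autGroup ⊤ ↔ topHom β ∈ F.Hom ⊤) := by
    intro α hα
    rw [mem_autGroup_iff F le_rfl]
    constructor
    · intro h
      exact mem_of_apply_eq h fun x => (hα x).symm
    · intro h
      exact mem_of_apply_eq h hα
  constructor
  · rintro ⟨α, hα, rfl⟩
    exact (key α fun x => rfl).1 hα
  · intro h
    refine ⟨(MulAut.congr Subgroup.topEquiv).symm β, ?_, (MulAut.congr Subgroup.topEquiv).apply_symm_apply β⟩
    exact (key _ fun x => rfl).2 h

theorem autGroup_top_eq_of_AF {F F' : FusionSystem (⊤ : Subgroup G0)} (h : AF F = AF F') :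
    F.autGroup ⊤ = F'.autGroup ⊤ :=
  Subgroup.map_injective (MulAut.congr Subgroup.topEquiv).injective h

theorem res_mem {β : MulAut G0} (hβ : β ∈ AF F) {Q : Subgroup G0} {γ : MulAut Q}
    (h : ∀ e : Q, ((γ e : Q) : G0) = β e) : γ ∈ F.autGroup Q := by
  rw [mem_autGroup_iff F le_top]
  exact mem_of_agree (mem_AF_iff.1 hβ) le_top fun x hx => h ⟨x, hx⟩

theorem fullyNorm_of_normal [Finite G0] {Q : Subgroup G0} (hQ : (⊤ : Subgroup G0) ≤ Subgroup.normalizer (Q : Set G0)) :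
    F.IsFullyNormalized Q := by
  refine ⟨le_top, fun Q' _ => ?_⟩
  have h1 : normalizerIn (⊤ : Subgroup G0) Q = ⊤ := by
    rw [normalizerIn, top_inf_eq]
    exact top_le_iff.1 hQ
  rw [h1]
  exact Subgroup.card_le_of_le le_top

theorem syl_of_normal [Finite G0] [Fact p.Prime] (hS : IsPGroup p (⊤ : Subgroup G0)) (hF : F.IsSaturated p)
    {Q : Subgroup G0} (hQ : (⊤ : Subgroup G0) ≤ Subgroup.normalizer (Q : Set G0)) :
    ∀ P : Subgroup (MulAut Q), P ≤ F.autGroup Q → IsPGroup p P →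
      ∃ g ∈ F.autGroup Q, ∀ x ∈ P, g * x * g⁻¹ ∈ autInducedBy ⊤ Q := by
  intro P hP hPp
  obtain ⟨β, hβ, hβe⟩ := exists_aut_conj_le_of_isPGroup (subtype_mem F le_top)
    (Subgroup.range_subtype Q) (isFullyAutomized_of_isFullyNormalized hS hF (fullyNorm_of_normal hQ)) P hP hPp
  refine ⟨β, hβ, fun x hx => ?_⟩
  have := hβe x hx
  rwa [congr_isoOf_subtype] at this

theorem ext_mem [Finite G0] [Fact p.Prime] (hS : IsPGroup p (⊤ : Subgroup G0)) (hF : F.IsSaturated p)
    {Q : Subgroup G0} (hQ : (⊤ : Subgroup G0) ≤ Subgroup.normalizer (Q : Set G0)) {γ : MulAut Q} (hγ : γ ∈ F.autGroup Q)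
    (hn : NormAut ⊤ γ) : ∃ β ∈ AF F, ∀ e : Q, ((γ e : Q) : G0) = β e := by
  have h1 : normalizerIn (⊤ : Subgroup G0) Q = ⊤ := by
    rw [normalizerIn, top_inf_eq]
    exact top_le_iff.1 hQ
  obtain ⟨ψ, hψ, he⟩ := exists_extension_of_normalizes
    (isReceptive_of_isFullyNormalized hS hF (fullyNorm_of_normal hQ)) hγ hn
  obtain ⟨ψ', hψ', he'⟩ : ∃ ψ' ∈ F.Hom (⊤ : Subgroup G0), ∀ (x : G0) (hx : x ∈ Q),
      ψ' ⟨x, Subgroup.mem_top x⟩ = (γ ⟨x, hx⟩ : Q) := by
    revert ψ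
    rw [h1]
    intro ψ hψ he
    exact ⟨ψ, hψ, fun x hx => he x hx _⟩
  have hr : ψ'.range = ⊤ := by
    have hc : Nat.card ψ'.range = Nat.card (⊤ : Subgroup G0) := (isConj_card_eq (isConj_range hψ')).symm
    exact Subgroup.eq_of_le_of_card_ge le_top hc.ge
  obtain ⟨α, hα, hαe⟩ := exists_aut hψ' hr
  refine ⟨MulAut.congr Subgroup.topEquiv α, ⟨α, hα, rfl⟩, fun e => ?_⟩
  have h2 := hαe ⟨e, Subgroup.mem_top _⟩
  rw [he' e e.2] at h2
  exact h2.symm

theorem mem_range_sup {D : Subgroup (MulAut G0)} {β : MulAut G0}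
    (h : β ∈ (MulAut.conj : G0 →* MulAut G0).range ⊔ D) : ∃ x : G0, ∃ d ∈ D, β = MulAut.conj x * d := by
  have hn : (MulAut.conj : G0 →* MulAut G0).range.Normal := by
    constructor
    rintro _ ⟨g, rfl⟩ α
    refine ⟨α g, ?_⟩
    ext x
    simp [MulAut.conj_apply]
  have h2 : β ∈ (((MulAut.conj : G0 →* MulAut G0).range ⊔ D : Subgroup (MulAut G0)) : Set (MulAut G0)) := h
  rw [Subgroup.normal_mul] at h2
  obtain ⟨_, ⟨x, rfl⟩, d, hd, rfl⟩ := h2
  exact ⟨x, d, hd, rfl⟩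

theorem map_conj_range (θ : MulAut G0) :
    ((MulAut.conj : G0 →* MulAut G0).range).map (MulAut.conj θ).toMonoidHom = (MulAut.conj : G0 →* MulAut G0).range := by
  have key : ∀ x : G0, MulAut.conj θ (MulAut.conj x) = MulAut.conj (θ x) := by
    intro x
    apply MulEquiv.ext
    intro y
    simp [MulAut.conj_apply]
  ext α
  constructor
  · rintro ⟨_, ⟨x, rfl⟩, rfl⟩
    exact ⟨θ x, (key x).symm⟩
  · rintro ⟨x, rfl⟩
    refine ⟨MulAut.conj (θ.symm x), ⟨_, rfl⟩, ?_⟩
    have := key (θ.symm x)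
    rw [MulEquiv.apply_symm_apply] at this
    exact this

theorem top_le_normalizer_of_char {Q : Subgroup G0} (h : ∀ α : MulAut G0, Q.map α.toMonoidHom = Q) :
    (⊤ : Subgroup G0) ≤ Subgroup.normalizer (Q : Set G0) := by
  intro x _
  rw [Subgroup.mem_normalizer_iff]
  intro y
  constructor
  · intro hy
    have h1 : MulAut.conj x y ∈ Q.map (MulAut.conj x).toMonoidHom := ⟨y, hy, rfl⟩
    rw [h] at h1
    exact h1
  · intro hy
    have h1 : MulAut.conj x⁻¹ (x * y * x⁻¹) ∈ Q.map (MulAut.conj x⁻¹).toMonoidHom := ⟨_, hy, rfl⟩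
    rw [h] at h1
    simpa [MulAut.conj_apply, mul_assoc] using h1

theorem inv_top_of_char {Q : Subgroup G0} (h : ∀ α : MulAut G0, Q.map α.toMonoidHom = Q) :
    Inv (F.autGroup ⊤) Q := by
  refine ⟨le_top, fun γ hγ e he => ?_⟩
  have h1 : (MulAut.congr Subgroup.topEquiv γ) (e : G0) ∈ Q.map (MulAut.congr Subgroup.topEquiv γ : MulAut G0).toMonoidHom :=
    ⟨_, he, rfl⟩
  rw [h] at h1
  exact h1

theorem not_norm_of_ess [Finite G0] {Q : Subgroup G0} {Γ : Subgroup (MulAut Q)} (h : Ess (⊤ : Subgroup G0) Q p Γ) :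
    ¬ ∀ γ ∈ Γ, NormAut ⊤ γ := by
  intro hn
  obtain ⟨H, hHΓ, hne, hA, hAI, hH⟩ := h.spe
  obtain ⟨g, hg, hgH⟩ : ∃ g ∈ Γ, g ∉ H := by
    by_contra hcon
    push Not at hcon
    exact hne (le_antisymm hHΓ hcon)
  apply hAI
  intro x hx
  refine hH g hg hgH x (hA hx) (hA (hn g hg x hx)) ?_
  obtain ⟨k, hk⟩ := isPGroup_autInducedBy h.pgr Q ⟨x, hx⟩
  exact ⟨k, by simpa using congrArg Subtype.val hk⟩

end

end Cfsg.Agent.H756.PU

private theorem dce_9ef8ab8bec8b : _root_.True := by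
  try have : _root_.True := by simp only [_root_.Cfsg.FusionSystem.normalizerIn.eq_1]
  exact _root_.True.intro
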